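import Groth.Agent.KDer46.Main
import Mathlib.Algebra.Category.ModuleCat.Abelian
import Mathlib.Algebra.Homology.ShortComplex.ModuleCat
import Mathlib.LinearAlgebra.Dimension.Localization
import Mathlib.LinearAlgebra.Dimension.RankNullity
import Mathlib.LinearAlgebra.Dimension.Free
import Mathlib.LinearAlgebra.FreeModule.PID
import Mathlib.RingTheory.Finiteness.Cardinality

/-!
`K₀` of the category of finitely generated modules over a principal ideal domain.
-/

set_option autoImplicit false
set_option linter.unusedSectionVars false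
set_option linter.style.haveILetI false

universe u

open CategoryTheory CategoryTheory.Limits

namespace Groth.Agent.K0PID46

variable (A : Type u) [CommRing A]

/-- Finitely generated modules. -/
abbrev Fin' : ObjectProperty (ModuleCat.{u} A) := fun M => Module.Finite A M

/-- The class of a module. -/
noncomputable abbrev cls (M : Type u) [AddCommGroup M] [Module A M] : KZero.K0sub (Fin' A) :=
  KZero.clSub (Fin' A) (ModuleCat.of A M)

theorem cls_ses {M₁ M₂ M₃ : Type u} [AddCommGroup M₁] [AddCommGroup M₂] [AddCommGroup M₃]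
    [Module A M₁] [Module A M₂] [Module A M₃] [Module.Finite A M₁] [Module.Finite A M₂]
    [Module.Finite A M₃] (f : M₁ →ₗ[A] M₂) (g : M₂ →ₗ[A] M₃) (hf : Function.Injective f)
    (h : Function.Exact f g) (hg : Function.Surjective g) :
    cls A M₂ = cls A M₁ + cls A M₃ := by
  have w : ModuleCat.ofHom f ≫ ModuleCat.ofHom g = 0 := by
    ext x
    exact h.apply_apply_eq_zero x
  have hS : (ShortComplex.mk (ModuleCat.ofHom f) (ModuleCat.ofHom g) w).ShortExact :=
    { exact := (ShortComplex.ShortExact.moduleCat_exact_iff_function_exact _).2 h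
      mono_f := (ModuleCat.mono_iff_injective _).2 hf
      epi_g := (ModuleCat.epi_iff_surjective _).2 hg }
  exact KDer46.clSub_add _ hS ‹Module.Finite A M₁› ‹Module.Finite A M₂› ‹Module.Finite A M₃›

theorem cls_subsingleton (M : Type u) [AddCommGroup M] [Module A M] [Subsingleton M] :
    cls A M = 0 := by
  have h := cls_ses A (LinearMap.id : M →ₗ[A] M) (LinearMap.id : M →ₗ[A] M)
    Function.injective_id (fun x => ⟨fun _ => ⟨x, rfl⟩, fun _ => Subsingleton.elim _ _⟩)
    Function.surjective_id
  exact left_eq_add.1 h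

theorem cls_equiv {M N : Type u} [AddCommGroup M] [Module A M] [AddCommGroup N] [Module A N]
    [Module.Finite A M] (e : M ≃ₗ[A] N) : cls A N = cls A M := by
  haveI : Module.Finite A N := Module.Finite.equiv e
  have h := cls_ses A e.toLinearMap (0 : N →ₗ[A] PUnit.{u+1}) e.injective
    (fun x => ⟨fun _ => ⟨e.symm x, e.apply_symm_apply x⟩, fun _ => rfl⟩)
    (fun x => ⟨0, rfl⟩)
  rw [cls_subsingleton A PUnit.{u+1}, add_zero] at h
  exact h

theorem cls_pi (n : ℕ) : cls A (Fin n → A) = (n : ℤ) • cls A A := by
  induction n with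
  | zero => rw [cls_subsingleton]; simp
  | succ n ih =>
    have h := cls_ses A (LinearMap.single A (fun _ : Fin (n + 1) => A) 0)
      (LinearMap.funLeft A A (Fin.succ : Fin n → Fin (n + 1)))
      (fun a b hab => by simpa using congrFun hab 0)
      (fun x => ⟨fun hx => ⟨x 0, funext fun i => by
        cases i using Fin.cases with
        | zero => simp
        | succ j =>
          have := congrFun hx j
          simp only [LinearMap.funLeft_apply, Pi.zero_apply] at this
          simp [this, Fin.succ_ne_zero]⟩,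
        fun ⟨a, ha⟩ => funext fun j => by
          subst ha
          simp [LinearMap.funLeft_apply, Fin.succ_ne_zero]⟩)
      (fun x => ⟨Fin.cons 0 x, funext fun j => by simp [LinearMap.funLeft_apply]⟩)
    rw [h, ih, Nat.cast_succ, add_smul, one_smul, add_comm]

variable [IsDomain A] [IsPrincipalIdealRing A]

theorem cls_mem (M : Type u) [AddCommGroup M] [Module A M] [Module.Finite A M] :
    ∃ k : ℤ, k • cls A A = cls A M := by
  obtain ⟨n, f, hf⟩ := Module.Finite.exists_fin' A M
  obtain ⟨m, ⟨b⟩⟩ : ∃ m : ℕ, Nonempty (Module.Basis (Fin m) A (LinearMap.ker f)) :=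
    ⟨_, ⟨(Submodule.basisOfPid (Pi.basisFun A (Fin n)) (LinearMap.ker f)).2⟩⟩
  have h := cls_ses A (LinearMap.ker f).subtype f (Submodule.injective_subtype _)
    (fun x => ⟨fun hx => ⟨⟨x, hx⟩, rfl⟩, fun ⟨y, hy⟩ => hy ▸ y.2⟩) hf
  rw [cls_equiv A b.equivFun.symm, cls_pi, cls_pi] at h
  exact ⟨(n : ℤ) - m, by rw [sub_smul, h, add_sub_cancel_left]⟩

/-- The generic rank. -/
noncomputable def rk : KZero.K0sub (Fin' A) →+ ℤ :=
  QuotientAddGroup.lift _ (FreeAbelianGroup.lift fun M => (Module.finrank A M.1 : ℤ)) (by
    rw [KZero.relSub, AddSubgroup.closure_le]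
    rintro _ ⟨S, h₁, h₂, h₃, hS, rfl⟩
    rw [SetLike.mem_coe, AddMonoidHom.mem_ker, map_sub, map_sub, FreeAbelianGroup.lift_apply_of,
      FreeAbelianGroup.lift_apply_of, FreeAbelianGroup.lift_apply_of]
    haveI : Module.Finite A S.X₂ := h₂
    have hex := (ShortComplex.ShortExact.moduleCat_exact_iff_function_exact S).1 hS.exact
    have hinj := (ModuleCat.mono_iff_injective S.f).1 hS.mono_f
    have hsurj := (ModuleCat.epi_iff_surjective S.g).1 hS.epi_g
    have e := Submodule.finrank_quotient_add_finrank (LinearMap.ker S.g.hom)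
    rw [(LinearMap.quotKerEquivOfSurjective S.g.hom hsurj).finrank_eq] at e
    have e₁ : Module.finrank A (LinearMap.ker S.g.hom) = Module.finrank A S.X₁ := by
      rw [show LinearMap.ker S.g.hom = LinearMap.range S.f.hom from LinearMap.exact_iff.1 hex]
      exact (LinearEquiv.ofInjective S.f.hom hinj).finrank_eq.symm
    rw [e₁] at e
    dsimp only
    omega)

theorem bijective : Function.Bijective (fun k : ℤ => k • cls A A) := by
  refine ⟨fun k l h => ?_, fun x => ?_⟩
  · have e := congrArg (rk A) h
    simp only [map_zsmul, smul_eq_mul] at e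
    have e1 : rk A (cls A A) = 1 := by
      rw [cls, KDer46.clSub_eq (P := Fin' A) (X := ModuleCat.of A A) (inferInstance : Module.Finite A A)]
      refine (FreeAbelianGroup.lift_apply_of _ _).trans ?_
      exact_mod_cast Module.finrank_self A
    simpa [e1] using e
  · obtain ⟨z, rfl⟩ := QuotientAddGroup.mk_surjective x
    induction z using FreeAbelianGroup.induction_on with
    | zero => exact ⟨0, zero_smul _ _⟩
    | of X =>
      haveI : Module.Finite A X.1 := X.2
      obtain ⟨k, hk⟩ := cls_mem A X.1
      exact ⟨k, hk.trans (KDer46.clSub_eq (P := Fin' A) X.2)⟩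
    | neg z hz =>
      obtain ⟨k, hk⟩ := hz
      exact ⟨-k, by simp only [neg_smul, QuotientAddGroup.mk_neg] at hk ⊢; rw [hk]⟩
    | add y z hy hz =>
      obtain ⟨k, hk⟩ := hy
      obtain ⟨l, hl⟩ := hz
      exact ⟨k + l, by simp only [add_smul, QuotientAddGroup.mk_add] at hk hl ⊢; rw [hk, hl]⟩

end Groth.Agent.K0PID46
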